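import Cfsg.Agent.Lib.Ree.Orders

/-! The minimal degree of a complex representation of a small Ree group. -/

set_option autoImplicit false
set_option linter.unusedSectionVars false

open Matrix MulAction H40.Tor

namespace H40.Ree

section Rep

variable {A V : Type*} [AddCommGroup A] [Fintype A] [AddCommGroup V] [Module ℂ V]

theorem exists_eigen (f : A → Module.End ℂ V) (h0 : f 0 = 1) (hf : ∀ a b, f (a + b) = f a * f b)
    (W : Submodule ℂ V) (hW : ∀ a, ∀ v ∈ W, f a v ∈ W) {v : V} (hv : v ∈ W) (h : v ≠ 0) :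
    ∃ (ψ : AddChar A ℂ) (w : V), w ∈ W ∧ w ≠ 0 ∧ ∀ a, f a w = ψ a • w := by
  classical
  by_contra hc
  push Not at hc
  have h1 : ∀ ψ : AddChar A ℂ, ∑ a, ψ (-a) • f a v = 0 := fun ψ => by
    by_contra e
    obtain ⟨b, hb⟩ := hc ψ _ (W.sum_mem fun a _ => W.smul_mem _ (hW a v hv)) e
    apply hb
    rw [map_sum, Finset.smul_sum, ← Equiv.sum_comp (Equiv.addLeft b) fun a => ψ b • ψ (-a) • f a v]
    refine Finset.sum_congr rfl fun a _ => ?_
    rw [map_smul, Equiv.coe_addLeft, hf, smul_smul, ← ψ.map_add_eq_mul]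
    simp
  have h2 := Finset.sum_congr (rfl : Finset.univ = _) fun ψ _ => h1 ψ
  rw [Finset.sum_comm] at h2
  simp only [← Finset.sum_smul, AddChar.sum_apply_eq_ite, neg_eq_zero, ite_smul, zero_smul,
    Finset.sum_ite_eq', Finset.mem_univ, if_true, h0, Finset.sum_const_zero, smul_eq_zero,
    Nat.cast_eq_zero, Fintype.card_ne_zero, false_or] at h2
  exact h h2

theorem linearIndependent_eigen (f : A → Module.End ℂ V) {ι : Type*} [Fintype ι] (ψ : ι → AddChar A ℂ)
    (hψ : Function.Injective ψ) (v : ι → V) (h0 : ∀ i, v i ≠ 0) (hv : ∀ i a, f a (v i) = ψ i a • v i) :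
    LinearIndependent ℂ v := by
  rw [Fintype.linearIndependent_iff]
  intro c hc i
  have h1 := (linearIndependent_monoidHom (Multiplicative A) ℂ).comp (fun i => (ψ i).toMonoidHom)
    (AddChar.toMonoidHomEquiv.injective.comp hψ)
  rw [Fintype.linearIndependent_iff] at h1
  obtain ⟨φ, hφ⟩ := Module.exists_dual_forall_apply_ne_zero (K := ℂ) (fun _ : Unit => v i) fun _ => h0 i
  have h2 := h1 (fun j => c j * φ (v j)) (by
    ext a
    have := congrArg (fun x => φ (f a.toAdd x)) hc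
    simp only [map_sum, map_smul, hv, map_zero, smul_eq_mul] at this
    simp only [Finset.sum_apply, Pi.smul_apply, Function.comp_apply, smul_eq_mul, Pi.zero_apply]
    rw [← this]
    exact Finset.sum_congr rfl fun j _ => by
      rw [mul_assoc, mul_comm (φ _)]; rfl) i
  exact (mul_eq_zero.1 h2).resolve_right (hφ ())

end Rep

variable {G : Type*} [Group G] {K : Type*} [Field K] [CharP K 3]

namespace Model

variable (S : Model G K)

theorem four_dvd_finrank [Finite K] {V : Type*} [AddCommGroup V] [Module ℂ V] [FiniteDimensional ℂ V]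
    (ρ : Representation ℂ G V) (h : ∀ v, (∀ c, ρ (S.u 0 0 c) v = v) → v = 0) : 4 ∣ Module.finrank ℂ V := by
  have := Fintype.ofFinite K
  have h1 : ∑ c, ρ (S.u 0 0 c) = 0 := by
    ext v
    apply h
    intro d
    rw [← Module.End.mul_apply, Finset.mul_sum, ← Equiv.sum_comp (Equiv.addLeft d) fun c => ρ (S.u 0 0 c)]
    simp only [← map_mul, u_zero_mul, add_zero, Equiv.coe_addLeft]
  have hc : ∀ x y, IsConj x y → LinearMap.trace ℂ V (ρ y) = LinearMap.trace ℂ V (ρ x) := fun x y hxy => by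
    obtain ⟨g, rfl⟩ := isConj_iff.1 hxy
    rw [map_mul, LinearMap.trace_mul_comm, ← map_mul, inv_mul_cancel_left]
  have h2 : LinearMap.trace ℂ V (ρ S.a0) = 0 := by
    have h3 := congrArg (fun f => LinearMap.trace ℂ V (f * ρ S.a0)) h1
    simp only [Finset.sum_mul, map_sum, ← map_mul, zero_mul, map_zero] at h3
    rw [Finset.sum_congr rfl fun c _ => hc S.a0 (S.u 0 0 c * S.a0) (S.isConj_a0 (by rw [u_a0_sq]; simp [u_zero])
      fun e => S.u_a0_not_mem_U 0 0 c (e ▸ one_mem _))] at h3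
    simpa using h3
  have h3 := (hc _ _ (isConj_iff.2 ⟨_, S.tau_conj_a0⟩)).trans h2
  have h4 := (hc _ _ (isConj_iff.2 ⟨_, S.tau_conj_w⟩)).trans h3
  have h5 : IsIdempotentElem ((1 / 4 : ℂ) • ((1 + ρ S.a0) * (1 + ρ S.w))) := by
    have a : ∀ x : G, x * x = 1 → (1 + ρ x) * (1 + ρ x) = (2 : ℂ) • (1 + ρ x) := fun x hx => by
      rw [mul_add, add_mul, add_mul, ← map_mul, hx, map_one, two_smul]; simp only [mul_one, one_mul]; abel
    have b : Commute (1 + ρ S.a0) (1 + ρ S.w) :=
      (Commute.one_left _).add_left ((Commute.one_right _).add_right (by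
        show _ = _
        rw [← map_mul, ← map_mul, a0_mul_w]))
    show _ = _
    rw [smul_mul_smul_comm, b.symm.mul_mul_mul_comm, a _ S.a0_mul_a0, a _ S.w_mul_w, smul_mul_smul_comm,
      smul_smul]
    norm_num
  have h6 := (LinearMap.IsIdempotentElem.isProj_range _ h5).trace
  generalize Module.finrank ℂ (LinearMap.range ((1 / 4 : ℂ) • ((1 + ρ S.a0) * (1 + ρ S.w)))) = n at h6
  rw [map_smul, mul_add, mul_one, add_mul, one_mul, ← map_mul, map_add, map_add, map_add,
    h2, h3, h4, LinearMap.trace_one] at h6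
  refine ⟨n, ?_⟩
  apply Nat.cast_injective (R := ℂ)
  push_cast
  rw [smul_eq_mul] at h6
  linear_combination 4 * h6

theorem le_finrank [Finite K] {V : Type*} [AddCommGroup V] [Module ℂ V] [FiniteDimensional ℂ V]
    (ρ : Representation ℂ G V) (h : ρ (S.u 0 0 1) ≠ 1) :
    Nat.card K ^ 2 - Nat.card K + 1 ≤ Module.finrank ℂ V := by
  classical
  have := Fintype.ofFinite K
  let f : K × K → Module.End ℂ V := fun p => ρ (S.u 0 p.1 p.2)
  have h0 : f 0 = 1 := by simp [f, u_zero]
  have hf : ∀ a b, f (a + b) = f a * f b := fun a b => by simp [f, ← map_mul, u_zero_mul]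
  have hcomm : ∀ a b v, f a (f b v) = f b (f a v) := fun a b v => by
    rw [← Module.End.mul_apply, ← Module.End.mul_apply, ← hf, ← hf, add_comm]
  obtain ⟨ψ, v, hv0, hv, hψ⟩ : ∃ (ψ : AddChar (K × K) ℂ) (v : V), v ≠ 0 ∧ (∀ a, f a v = ψ a • v) ∧
      ψ (0, 1) ≠ 1 := by
    obtain ⟨v, hv⟩ : ∃ v, (f (0, 1) - 1) v ≠ 0 := by
      by_contra hc
      push Not at hc
      exact h (sub_eq_zero.1 (LinearMap.ext hc))
    obtain ⟨ψ, _, ⟨w, rfl⟩, h1, h2⟩ := exists_eigen f h0 hf (LinearMap.range (f (0, 1) - 1))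
      (by rintro a _ ⟨w, rfl⟩; exact ⟨f a w, by simp [hcomm a]⟩) ⟨v, rfl⟩ hv
    refine ⟨ψ, _, h1, h2, fun e => h1 ?_⟩
    have h3 := h2 (0, 1)
    rw [e, one_smul] at h3
    have h4 : f (0, 1) * f (0, 1) * f (0, 1) = 1 := by
      rw [← hf, ← hf, ← h0]; congr 1; ext <;> simp; grind
    have h5 := congrArg (· w) h4
    simp only [Module.End.mul_apply, LinearMap.sub_apply, Module.End.one_apply, map_sub] at h3 h5 ⊢
    have h6 := congrArg (f (0, 1)) h3
    simp only [map_sub, h5] at h6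
    apply smul_right_injective V (three_ne_zero (α := ℂ))
    linear_combination (norm := module) -h6 - (2 : ℂ) • h3
  let b : Kˣ × K → G := fun p => S.u p.2 0 0 * S.h p.1
  let m : Kˣ × K → K × K →+ K × K := fun p =>
    { toFun := fun x => (p.1 * S.s p.1 * x.1, p.1 ^ 2 * S.s p.1 * x.2 + p.2 * (p.1 * S.s p.1 * x.1))
      map_zero' := by simp
      map_add' := fun x y => by ext <;> simp <;> ring }
  have hb : ∀ p x, S.u 0 x.1 x.2 * (b p)⁻¹ = (b p)⁻¹ * S.u 0 (m p x).1 (m p x).2 := fun p x => by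
    rw [eq_inv_mul_iff_mul_eq, ← mul_assoc, show b p * S.u 0 x.1 x.2 * (b p)⁻¹ =
      S.u p.2 0 0 * (S.h p.1 * S.u 0 x.1 x.2 * (S.h p.1)⁻¹) * (S.u p.2 0 0)⁻¹ by simp only [b]; group,
      h_conj_u, u_conj_u]
    simp [m]
  let χ : Kˣ × K → AddChar (K × K) ℂ := fun p => ψ.compAddMonoidHom (m p)
  have key : ∀ x : K, (∀ y, ψ (0, x * y) = 1) → x = 0 := fun x hx => by
    by_contra e
    exact hψ (by simpa [e] using hx x⁻¹)
  have hdiff : ∀ x y : K × K, ψ x = ψ y → ψ (x - y) = 1 := fun x y e => by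
    rw [AddChar.map_sub_eq_div, e, div_self (ψ.val_isUnit y).ne_zero]
  have hs : ∀ k : Kˣ, S.s k ≠ 0 := fun k e => k.ne_zero (S.s_eq_zero.1 e)
  have hχ : Function.Injective χ := by
    rintro ⟨k, a⟩ ⟨l, a'⟩ e
    have h1 := key (k ^ 2 * S.s k - l ^ 2 * S.s l) fun y => by
      simpa [χ, m, sub_mul] using hdiff _ _ (DFunLike.congr_fun e (0, y))
    obtain rfl : k = l := by
      have := S.sq_s_eq_one (k := k / l) (by
        have := hs l
        rw [map_div₀]; field_simp; linear_combination h1)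
      exact Units.ext (div_eq_one_iff_eq l.ne_zero |>.1 this)
    have h2 := key ((a - a') * (k * S.s k)) fun y => by
      simpa [χ, m, sub_mul, mul_assoc] using hdiff _ _ (DFunLike.congr_fun e (y, 0))
    rw [sub_eq_zero.1 ((mul_eq_zero.1 h2).resolve_right (mul_ne_zero k.ne_zero (hs k)))]
  have hw0 : ∀ p, ρ (b p)⁻¹ v ≠ 0 := fun p e => hv0 (by
    rw [← ρ.self_inv_apply (b p) v, e, map_zero])
  have hw : ∀ p x, f x (ρ (b p)⁻¹ v) = χ p x • ρ (b p)⁻¹ v := fun p x => by
    rw [← Module.End.mul_apply, ← map_mul, hb, map_mul, Module.End.mul_apply, ← map_smul]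
    exact congrArg _ (hv (m p x))
  have hcard : Fintype.card (Kˣ × K) = Nat.card K ^ 2 - Nat.card K := by
    rw [← Nat.card_eq_fintype_card, Nat.card_prod, Nat.card_units, Nat.sub_one_mul, sq]
  by_cases hz : ∀ v, (∀ c, ρ (S.u 0 0 c) v = v) → v = 0
  · have h1 := (linearIndependent_eigen f χ hχ _ hw0 hw).fintype_card_le_finrank
    have h2 := S.four_dvd_finrank ρ hz
    have h8 := S.card_mod_eight
    have h3 : (Nat.card K ^ 2 - Nat.card K) % 4 = 2 := by
      rw [sq, ← Nat.mul_sub_one, Nat.mul_mod, show Nat.card K % 4 = 3 by omega,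
        show (Nat.card K - 1) % 4 = 2 by omega]
    omega
  · push Not at hz
    obtain ⟨v', h1, h2⟩ := hz
    obtain ⟨ψ', w, h3, h4, h5⟩ := exists_eigen f h0 hf (LinearMap.ker (f (0, 1) - 1) ⊓
      ⨅ c, LinearMap.ker (f (0, c) - 1)) (fun a w hw => by
        simp only [Submodule.mem_inf, Submodule.mem_iInf, LinearMap.mem_ker, LinearMap.sub_apply,
          Module.End.one_apply, sub_eq_zero] at hw ⊢
        exact ⟨by rw [hcomm, hw.1], fun c => by rw [hcomm, hw.2]⟩) (v := v') (by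
        simp only [Submodule.mem_inf, Submodule.mem_iInf, LinearMap.mem_ker, LinearMap.sub_apply,
          Module.End.one_apply, sub_eq_zero]
        exact ⟨h1 _, h1⟩) h2
    have h6 : ∀ c, ψ' (0, c) = 1 := fun c => by
      have := sub_eq_zero.1 ((Submodule.mem_iInf _).1 h3.2 c)
      exact smul_left_injective ℂ h4 ((h5 _).symm.trans (this.trans (one_smul _ _).symm))
    have h7 : ∀ p, χ p ≠ ψ' := fun p e => by
      have := key (p.1 ^ 2 * S.s p.1) fun y => by simpa [χ, m, h6] using DFunLike.congr_fun e (0, y)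
      exact p.1.ne_zero (S.sq_s_eq_zero this)
    have h8 := (linearIndependent_eigen f (fun o : Option (Kˣ × K) => o.elim ψ' χ) (by
      rintro (_ | p) (_ | p') e
      exacts [rfl, absurd e.symm (h7 _), absurd e (h7 _), congrArg _ (hχ e)])
      (fun o => o.elim w fun p => ρ (b p)⁻¹ v) (by rintro (_ | p); exacts [h4, hw0 p])
      (by rintro (_ | p); exacts [h5, hw p])).fintype_card_le_finrank
    rwa [Fintype.card_option, hcard] at h8

end Model

end H40.Ree
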