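import Cfsg.Agent.Lib.Ree.TorusM
import Cfsg.Agent.Lib.Core.Fitting

/-! Local subgroups and solvable subgroups of the small Ree groups. -/

set_option autoImplicit false
set_option linter.unusedSectionVars false

open Matrix MulAction H40.Tor

namespace H40.Ree

theorem le_normalizer_map_subtype {G : Type*} [Group G] {L : Subgroup G} (N : Subgroup L) [hN : N.Normal] :
    L ≤ Subgroup.normalizer ((N.map L.subtype : Subgroup G) : Set G) := by
  have key : ∀ g ∈ L, ∀ x ∈ N.map L.subtype, g * x * g⁻¹ ∈ N.map L.subtype := by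
    rintro g hg _ ⟨x, hx, rfl⟩
    exact ⟨_, hN.conj_mem x hx ⟨g, hg⟩, rfl⟩
  intro g hg
  rw [Subgroup.mem_normalizer_iff]
  exact fun x => ⟨key g hg x, fun h => by simpa [mul_assoc] using key _ (L.inv_mem hg) _ h⟩

/-- A finite solvable group is a 2-group or normalises a `p`-subgroup of order at least three. -/
theorem exists_le_normalizer_of_solvable {G : Type*} [Group G] [Finite G] (L : Subgroup G)
    [Group.IsSolvable L] : IsPGroup 2 L ∨ ∃ (p : ℕ) (R : Subgroup G), p.Prime ∧ IsPGroup p R ∧ R ≤ L ∧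
      2 < Nat.card R ∧ L ≤ Subgroup.normalizer (R : Set G) := by
  by_contra hc
  push Not at hc
  have h1 : ∀ p : ℕ, p.Prime → Nat.card (Cfsg.pCore p L) ≤ 2 := fun p hp => by
    have := Fact.mk hp
    by_contra h
    exact hc.2 p _ hp ((H1.isPGroup_pCore (p := p) (G := L)).map L.subtype) (Subgroup.map_subtype_le _)
      (by rw [Subgroup.card_map_of_injective L.subtype_injective]; omega) (le_normalizer_map_subtype _)
  have h2 : Cfsg.fittingSubgroup L ≤ Cfsg.pCore 2 L := by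
    rw [H1.fitting_eq_iSup_pCore]
    refine iSup_le fun ⟨p, hp⟩ => ?_
    have := Fact.mk hp
    obtain ⟨_ | n, hn⟩ := (H1.isPGroup_pCore (p := p) (G := L)).exists_card_eq
    · exact (Subgroup.eq_bot_of_card_eq _ hn).le.trans bot_le
    · have h3 := Nat.le_of_dvd Nat.card_pos (hn ▸ dvd_pow_self p n.succ_ne_zero : p ∣ Nat.card (Cfsg.pCore p L))
      obtain rfl : p = 2 := le_antisymm (h3.trans (h1 p hp)) hp.two_le
      exact le_rfl
  have h3 : Cfsg.pCore 2 L = ⊤ := by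
    rw [eq_top_iff]
    refine le_trans (fun g _ => ?_) (H1.centralizer_fitting_le.trans h2)
    intro x hx
    by_cases hx1 : x = 1
    · simp [hx1]
    have h4 : Nat.card (Cfsg.pCore 2 L) = 2 := le_antisymm (h1 2 Nat.prime_two)
      ((Subgroup.one_lt_card_iff_ne_bot _).2 fun e => hx1 (by simpa [e] using h2 hx))
    obtain ⟨y, -, hy⟩ := (Nat.card_eq_two_iff' (1 : Cfsg.pCore 2 L)).1 h4
    have a := hy ⟨x, h2 hx⟩ fun e => hx1 (congrArg Subtype.val e)
    have b := hy ⟨_, (inferInstance : (Cfsg.pCore 2 L).Normal).conj_mem x (h2 hx) g⟩ fun e => conj_ne_one hx1 (congrArg Subtype.val e)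
    exact (mul_inv_eq_iff_eq_mul.1 (congrArg Subtype.val (b.trans a.symm))).symm
  exact hc.1 ((h3 ▸ H1.isPGroup_pCore : IsPGroup 2 (⊤ : Subgroup L)).of_equiv Subgroup.topEquiv)

variable {G : Type*} [Group G] {K : Type*} [Field K] [CharP K 3]

namespace Model

variable (S : Model G K)

theorem normalizer_le_B {R : Subgroup G} (h : R ≤ S.U) (h1 : R ≠ ⊥) : Subgroup.normalizer (R : Set G) ≤ S.B := by
  obtain ⟨⟨x, hx⟩, hx1⟩ := Subgroup.ne_bot_iff_exists_ne_one.1 h1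
  exact fun g hg => S.mem_B_of_conj_mem_B (h hx) (fun e => hx1 (Subtype.ext e))
    (S.U_le_B (h ((Subgroup.mem_normalizer_iff.1 hg x).1 hx)))

theorem exists_eq_V4 [Finite K] {R : Subgroup G} (hR : IsPGroup 2 R) (h4 : Nat.card R = 4) :
    ∃ g, R = (S.conj g).V4 := by
  have := S.finite
  obtain ⟨g0, hg0⟩ := S.exists_conj_E_ge hR
  obtain ⟨⟨a, ha⟩, ha1⟩ := Subgroup.ne_bot_iff_exists_ne_one.1 ((Subgroup.one_lt_card_iff_ne_bot R).1 (by omega))
  replace ha1 : a ≠ 1 := fun e => ha1 (Subtype.ext e)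
  obtain ⟨b, hb, hb'⟩ : ∃ b ∈ R, b ∉ ({1, a} : Set G) := by
    by_contra hc
    push Not at hc
    have h1 := Set.ncard_le_ncard (s := (R : Set G)) hc
    rw [Set.ncard_pair ha1.symm, ← Nat.card_coe_set_eq] at h1
    exact absurd (h4.symm.trans_le h1) (by norm_num)
  obtain ⟨g, h1, h2⟩ := S.exists_conj_V4 ((S.conj g0).sq_of_mem_E (hg0 ha)) ha1
    ((S.conj g0).sq_of_mem_E (hg0 hb)) (fun e => hb' (Or.inl e)) (fun e => hb' (Or.inr e.symm))
    ((S.conj g0).E_comm (hg0 ha) (hg0 hb))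
  have hw : (S.conj g).w ∈ R := by
    rcases h2 with h2 | h2
    · exact h2 ▸ hb
    · exact (R.mul_mem_cancel_left ha).1 (h2 ▸ hb)
  refine ⟨g, (Subgroup.eq_of_le_of_card_ge (fun x hx => ?_) (by rw [h4, card_V4])).symm⟩
  rcases (S.conj g).mem_V4.1 hx with rfl | rfl | rfl | rfl
  exacts [one_mem _, h1 ▸ ha, hw, mul_mem (h1 ▸ ha) hw]

/-- the local subgroups -/
theorem local_cases [Finite K] {p : ℕ} (hp : p.Prime) {R : Subgroup G}
    (hR : IsPGroup p R) (h2 : 2 < Nat.card R) :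
    (∃ g, R = (S.conj g).E) ∨ (∃ g, R ≤ (S.conj g).U) ∨ (∃ g, R = (S.conj g).V4) ∨
      (∃ g, R ≤ cj g S.H0) ∨ (∃ g, R ≤ cj g S.A0) ∨
      ∃ T : Subgroup G, IsTor T T ∧ R ≤ T ∧ Nat.card T ∣ Nat.card K ^ 2 - Nat.card K + 1 := by
  have := S.finite
  have := Fact.mk hp
  obtain ⟨n, hn⟩ := hR.exists_card_eq
  have hd : p ∣ Nat.card R := hn ▸ dvd_pow_self p (by rintro rfl; rw [hn] at h2; simp at h2)
  have key : ∀ T A : Subgroup G, IsTor T A → p ∣ Nat.card A → ∃ g, R ≤ cj g A := fun T A h hA => by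
    obtain ⟨g, hg⟩ := exists_cj_ge_of_not_dvd_index (h.hall p hp hA) hR
    exact ⟨g, fun x hx => (h.cj g).mem x (hg hx) (((h.odd.of_dvd_nat hA).pow (n := n)).of_dvd_nat
      (hn ▸ R.orderOf_dvd_natCard hx))⟩
  rcases S.prime_cases hp (hd.trans R.card_subgroup_dvd_card) with rfl | rfl | h | h | h
  · obtain ⟨g, hg⟩ := S.exists_conj_E_ge hR
    have h3 := Subgroup.card_dvd_of_le hg
    rw [card_E] at h3
    have h4 := Nat.le_of_dvd (by norm_num) h3
    by_cases h8 : Nat.card R = 8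
    · exact Or.inl ⟨g, Subgroup.eq_of_le_of_card_ge hg (by rw [h8, card_E])⟩
    · refine Or.inr (Or.inr (Or.inl (S.exists_eq_V4 hR ?_)))
      generalize Nat.card R = k at *
      interval_cases k <;> omega
  · exact Or.inr (Or.inl (S.exists_conj_U_ge hR))
  · exact Or.inr (Or.inr (Or.inr (Or.inl (key _ _ S.isTor_H h))))
  · exact Or.inr (Or.inr (Or.inr (Or.inr (Or.inl (key _ _ S.isTor_T0 h)))))
  · obtain ⟨T, h1, h2, h3, -⟩ := S.exists_torM hp h
    obtain ⟨g, hg⟩ := key _ _ h1 h2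
    exact Or.inr (Or.inr (Or.inr (Or.inr (Or.inr ⟨_, h1.cj g, hg, by rwa [card_cj]⟩))))

theorem card_torM [Finite K] (S : Model G K) (hq : 3 < Nat.card K) {r : ℕ} (hr : r * r = 3 * Nat.card K)
    {T : Subgroup G} (hT : IsTor T T) (h1 : T ≠ ⊥) (hd : Nat.card T ∣ Nat.card K ^ 2 - Nat.card K + 1) :
    (Nat.card T = Nat.card K - r + 1 ∨ Nat.card T = Nat.card K + r + 1) ∧
      Nat.card (Subgroup.normalizer (T : Set G)) = 6 * Nat.card T := by
  have := S.finite
  have key : ∀ T' : Subgroup G, IsTor T' T' → ∀ p : ℕ, p.Prime → p ∣ Nat.card T → p ∣ Nat.card T' →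
      ∃ g, T = cj g T' := fun T' h' p hp a b => by
    have := Fact.mk hp
    obtain ⟨⟨x, hx⟩, ho⟩ := exists_prime_orderOf_dvd_card' p a
    rw [← Subgroup.orderOf_coe] at ho
    have hx1 : x ≠ 1 := fun e => hp.one_lt.ne (by rw [← ho]; simp [e])
    obtain ⟨g, hg⟩ := h'.exists_conj_mem (x := x) hp b ho.symm.dvd
    exact ⟨g, by rw [← hT.cent x hx hx1, (h'.cj g).cent x (mem_cj.2 hg) hx1]⟩
  obtain ⟨p, hp, hpd⟩ := Nat.exists_prime_and_dvd ((Subgroup.one_lt_card_iff_ne_bot T).2 h1).ne'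
  have h2 := hpd.trans hd
  rw [M_factor hq.le hr, hp.dvd_mul] at h2
  rcases h2 with h | h
  · obtain ⟨T', t, c, n⟩ := S.exists_tor_pm hq hr (Or.inl rfl)
    obtain ⟨g, rfl⟩ := key T' t p hp hpd (c ▸ h)
    exact ⟨Or.inl (by rw [card_cj, c]), by rw [← cj_normalizer, card_cj, card_cj, n, c]⟩
  · obtain ⟨T', t, c, n⟩ := S.exists_tor_pm hq hr (Or.inr rfl)
    obtain ⟨g, rfl⟩ := key T' t p hp hpd (c ▸ h)
    exact ⟨Or.inr (by rw [card_cj, c]), by rw [← cj_normalizer, card_cj, card_cj, n, c]⟩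

end Model

end H40.Ree
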