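import Mathlib
import Cfsg.Prelude.Def_LieTwisted
import Cfsg.Prelude.Def_ChevStructure

/-! The root elements of the Chevalley group of type G2 in characteristic three, on the short-root ideal
and on the quotient. -/

set_option autoImplicit false

open Cfsg.Lie Matrix

namespace H40.Ree

variable {K : Type*} [Field K]

/-- number of a basis vector of the Lie algebra -/
def code : chevG2.Idx → ℕ := Sum.elim (fun i => i.val) (fun r => r.val + 2)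

/-- basis of the short-root ideal -/
def io : Fin 7 → chevG2.Idx := ![.inr ⟨9, by decide⟩, .inr ⟨8, by decide⟩, .inr ⟨7, by decide⟩,
  .inl ⟨0, by decide⟩, .inr ⟨4, by decide⟩, .inr ⟨3, by decide⟩, .inr ⟨2, by decide⟩]

/-- basis of the quotient -/
def ka : Fin 7 → chevG2.Idx := ![.inr ⟨11, by decide⟩, .inr ⟨10, by decide⟩, .inr ⟨6, by decide⟩,
  .inl ⟨1, by decide⟩, .inr ⟨5, by decide⟩, .inr ⟨1, by decide⟩, .inr ⟨0, by decide⟩]

def vecN (i d : Fin 7 → K) (n : ℕ) : K :=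
  [i 3, d 3, d 6, d 5, i 6, i 5, i 4, d 4, d 2, i 2, i 1, i 0, d 1, d 0].getD n 0

/-- the vector of the Lie algebra with given coordinates -/
def vec (i d : Fin 7 → K) : chevG2.Idx → K := fun c => vecN i d (code c)

theorem vec_io (i d : Fin 7 → K) : vec i d ∘ io = i := by
  funext k; fin_cases k <;> rfl

theorem vec_ka (i d : Fin 7 → K) : vec i d ∘ ka = d := by
  funext k; fin_cases k <;> rfl

theorem idx_cases : ∀ c : chevG2.Idx, (∃ k, c = io k) ∨ ∃ k, c = ka k := by decide +kernel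

theorem ext_io_ka {x y : chevG2.Idx → K} (h1 : x ∘ io = y ∘ io) (h2 : x ∘ ka = y ∘ ka) : x = y := by
  funext c
  rcases idx_cases c with ⟨k, rfl⟩ | ⟨k, rfl⟩
  · exact congrFun h1 k
  · exact congrFun h2 k

theorem vec_eta (x : chevG2.Idx → K) : vec (x ∘ io) (x ∘ ka) = x :=
  ext_io_ka (vec_io _ _) (vec_ka _ _)

/-- coefficient lists of the entries of a root element -/
def xco (D : ChevalleyDatum) (r : Fin D.nroots) (row col : D.Idx) : List (ℕ × ℤ) :=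
    match col with
    | Sum.inl i =>
      (match row with
       | Sum.inl i' => if i' = i then [(0, 1)] else []
       | Sum.inr u => if u = r then [(1, - ((D.cartanSR.getD i.val #[]).getD r.val 0 : ℤ))] else [])
    | Sum.inr s =>
      if s = r then (match row with | Sum.inr u => if u = r then [(0, 1)] else [] | Sum.inl _ => [])
      else if s.val = D.negIdx.getD r.val 0 then
        (match row with
         | Sum.inl i => [(1, ((D.coroot.getD r.val #[]).getD i.val 0 : ℤ))]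
         | Sum.inr u => if u = s then [(0, 1)] else if u = r then [(2, -1)] else [])
      else
        (match row with
         | Sum.inl _ => []
         | Sum.inr u => (if u = s then [(0, 1)] else []) ++ (D.chainCoeff r.val s.val u.val))

theorem xco_eq_def_aux : @xco = @xco := by
  funext D r row col
  have := @xco.eq_def D r row col
  rfl

def ev (l : List (ℕ × ℤ)) (t : K) : K := (l.map fun km => ((km.2 : ℤ) : K) * t ^ km.1).sum

theorem xMat_eq (D : ChevalleyDatum) (r : Fin D.nroots) (t : K) (row col : D.Idx) :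
    D.xMat K r t row col = ev (xco D r row col) t := by
  delta ChevalleyDatum.xMat xco
  rcases col with i | s <;> rcases row with i' | u <;> simp only [Matrix.of_apply] <;> split_ifs <;>
    simp [ev]

def allIdx : List chevG2.Idx := List.ofFn io ++ List.ofFn ka

theorem sum_idx (f : chevG2.Idx → K) : ∑ c, f c = (allIdx.map f).sum := by
  have h1 : allIdx.toFinset = Finset.univ := by decide +kernel
  have h2 : allIdx.Nodup := by decide +kernel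
  rw [← h1, List.sum_toFinset _ h2]

def red3 (z : ℤ) : ℤ := if z % 3 = 2 then -1 else z % 3

theorem red3_cast [CharP K 3] (z : ℤ) : ((red3 z : ℤ) : K) = z := by
  rw [CharP.intCast_eq_intCast K 3]
  unfold red3 Int.ModEq
  split_ifs with h <;> omega

def rowTerms (r : Fin chevG2.nroots) (row : chevG2.Idx) : List (ℕ × ℕ × ℤ) :=
  (allIdx.flatMap fun c => (xco chevG2 r row c).map fun km => (code c, km.1, red3 km.2)).filter
    fun p => p.2.2 ≠ 0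

def evRow (l : List (ℕ × ℕ × ℤ)) (t : K) (x : ℕ → K) : K :=
  (l.map fun p => ((p.2.2 : ℤ) : K) * t ^ p.2.1 * x p.1).sum

theorem evRow_filter (l : List (ℕ × ℕ × ℤ)) (t : K) (x : ℕ → K) :
    evRow (l.filter fun p => p.2.2 ≠ 0) t x = evRow l t x := by
  induction l with
  | nil => rfl
  | cons p l ih =>
    by_cases h : p.2.2 = 0
    · rw [List.filter_cons_of_neg (by simp [h]), ih]; simp [evRow, h]
    · rw [List.filter_cons_of_pos (by simp [h])]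
      simp only [evRow, List.map_cons, List.sum_cons] at ih ⊢
      rw [ih]

theorem xMat_mulVec [CharP K 3] (r : Fin chevG2.nroots) (t : K) (i d : Fin 7 → K) (row : chevG2.Idx) :
    (chevG2.xMat K r t *ᵥ vec i d) row = evRow (rowTerms r row) t (vecN i d) := by
  rw [rowTerms, evRow_filter, mulVec, dotProduct, sum_idx]
  generalize allIdx = l
  induction l with
  | nil => rfl
  | cons c l ih =>
    rw [List.map_cons, List.sum_cons, ih, List.flatMap_cons, evRow, evRow, List.map_append,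
      List.sum_append, xMat_eq]
    congr 1
    generalize xco chevG2 r row c = m
    induction m with
    | nil => simp [ev]
    | cons p m ihm =>
      simp only [ev, List.map_cons, List.sum_cons, add_mul, red3_cast] at ihm ⊢
      rw [ihm]; rfl

/-- root element number 0 on the short-root ideal -/
def Y0 (t : K) : Matrix (Fin 7) (Fin 7) K :=
  !![1, 0, 0, 0, 0, 0, 0; 0, 1, 0, 0, 0, 0, 0; 0, 0, 1, 0, 0, 0, 0; 0, 0, 0, 1, 0, 0, 0; 0, 0, 0, 0, 1, 0, 0; -t, 0, 0, 0, 0, 1, 0; 0, t, 0, 0, 0, 0, 1]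

theorem Y0_mulVec (t : K) (v : Fin 7 → K) :
    Y0 t *ᵥ v = ![v 0, v 1, v 2, v 3, v 4, v 5 - t * v 0, v 6 + t * v 1] := by
  ext k
  fin_cases k <;> simp [Y0, mulVec, dotProduct, Fin.sum_univ_seven] <;> ring

theorem rowI0 : (fun k => rowTerms ⟨0, by decide⟩ (io k)) =
    ![[(11, 0, 1)], [(10, 0, 1)], [(9, 0, 1)], [(0, 0, 1), (13, 1, -1)], [(6, 0, 1)], [(11, 1, -1), (5, 0, 1)], [(10, 1, 1), (4, 0, 1)]] := by decide +kernel

theorem rowD0 : (fun k => rowTerms ⟨0, by decide⟩ (ka k)) =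
    ![[(13, 0, 1)], [(12, 0, 1)], [(8, 0, 1)], [(13, 1, 1), (1, 0, 1)], [(12, 1, -1), (7, 0, 1)], [(8, 1, 1), (3, 0, 1)], [(13, 2, -1), (1, 1, 1), (2, 0, 1)]] := by decide +kernel

theorem x0_vec [CharP K 3] (t : K) (i d : Fin 7 → K) :
    chevG2.xMat K ⟨0, by decide⟩ t *ᵥ vec i d =
      vec ![i 0, i 1, i 2, i 3 - d 0 * t, i 4, i 5 - i 0 * t, i 6 + i 1 * t]
        ![d 0, d 1, d 2, d 3 + d 0 * t, d 4 - d 1 * t, d 5 + d 2 * t, d 6 + d 3 * t - d 0 * t ^ 2] := by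
  apply ext_io_ka
  · rw [vec_io]; funext k
    rw [Function.comp_apply, xMat_mulVec, congrFun rowI0 k]
    fin_cases k <;> simp [evRow, vecN] <;> ring
  · rw [vec_ka]; funext k
    rw [Function.comp_apply, xMat_mulVec, congrFun rowD0 k]
    fin_cases k <;> simp [evRow, vecN] <;> ring

/-- root element number 1 on the short-root ideal -/
def Y1 (t : K) : Matrix (Fin 7) (Fin 7) K :=
  !![1, 0, 0, 0, 0, 0, 0; 0, 1, 0, 0, 0, 0, 0; 0, 0, 1, 0, 0, 0, 0; 0, 0, 0, 1, 0, 0, 0; -t, 0, 0, 0, 1, 0, 0; 0, 0, 0, 0, 0, 1, 0; 0, 0, t, 0, 0, 0, 1]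

theorem Y1_mulVec (t : K) (v : Fin 7 → K) :
    Y1 t *ᵥ v = ![v 0, v 1, v 2, v 3, v 4 - t * v 0, v 5, v 6 + t * v 2] := by
  ext k
  fin_cases k <;> simp [Y1, mulVec, dotProduct, Fin.sum_univ_seven] <;> ring

theorem rowI1 : (fun k => rowTerms ⟨1, by decide⟩ (io k)) =
    ![[(11, 0, 1)], [(10, 0, 1)], [(9, 0, 1)], [(0, 0, 1), (12, 1, -1)], [(11, 1, -1), (6, 0, 1)], [(5, 0, 1)], [(9, 1, 1), (4, 0, 1)]] := by decide +kernel

theorem rowD1 : (fun k => rowTerms ⟨1, by decide⟩ (ka k)) =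
    ![[(13, 0, 1)], [(12, 0, 1)], [(13, 1, -1), (8, 0, 1)], [(12, 1, -1), (1, 0, 1)], [(7, 0, 1)], [(12, 2, -1), (1, 1, -1), (3, 0, 1)], [(7, 1, 1), (2, 0, 1)]] := by decide +kernel

theorem x1_vec [CharP K 3] (t : K) (i d : Fin 7 → K) :
    chevG2.xMat K ⟨1, by decide⟩ t *ᵥ vec i d =
      vec ![i 0, i 1, i 2, i 3 - d 1 * t, i 4 - i 0 * t, i 5, i 6 + i 2 * t]
        ![d 0, d 1, d 2 - d 0 * t, d 3 - d 1 * t, d 4, d 5 - d 3 * t - d 1 * t ^ 2, d 6 + d 4 * t] := by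
  apply ext_io_ka
  · rw [vec_io]; funext k
    rw [Function.comp_apply, xMat_mulVec, congrFun rowI1 k]
    fin_cases k <;> simp [evRow, vecN] <;> ring
  · rw [vec_ka]; funext k
    rw [Function.comp_apply, xMat_mulVec, congrFun rowD1 k]
    fin_cases k <;> simp [evRow, vecN] <;> ring

/-- root element number 2 on the short-root ideal -/
def Y2 (t : K) : Matrix (Fin 7) (Fin 7) K :=
  !![1, 0, 0, 0, 0, 0, 0; 0, 1, 0, 0, 0, 0, 0; 0, 0, 1, 0, 0, 0, 0; t, 0, 0, 1, 0, 0, 0; 0, -t, 0, 0, 1, 0, 0; 0, 0, t, 0, 0, 1, 0; -t ^ 2, 0, 0, t, 0, 0, 1]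

theorem Y2_mulVec (t : K) (v : Fin 7 → K) :
    Y2 t *ᵥ v = ![v 0, v 1, v 2, v 3 + t * v 0, v 4 - t * v 1, v 5 + t * v 2, v 6 + t * v 3 - t ^ 2 * v 0] := by
  ext k
  fin_cases k <;> simp [Y2, mulVec, dotProduct, Fin.sum_univ_seven] <;> ring

theorem rowI2 : (fun k => rowTerms ⟨2, by decide⟩ (io k)) =
    ![[(11, 0, 1)], [(10, 0, 1), (13, 1, -1)], [(9, 0, 1), (12, 1, -1)], [(11, 1, 1), (0, 0, 1)], [(10, 1, -1), (6, 0, 1), (13, 2, -1)], [(9, 1, 1), (5, 0, 1), (12, 2, 1)], [(11, 2, -1), (0, 1, 1), (4, 0, 1)]] := by decide +kernel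

theorem rowD2 : (fun k => rowTerms ⟨2, by decide⟩ (ka k)) =
    ![[(13, 0, 1)], [(12, 0, 1)], [(8, 0, 1)], [(1, 0, 1)], [(7, 0, 1)], [(13, 3, -1), (3, 0, 1)], [(12, 3, 1), (2, 0, 1)]] := by decide +kernel

theorem x2_vec [CharP K 3] (t : K) (i d : Fin 7 → K) :
    chevG2.xMat K ⟨2, by decide⟩ t *ᵥ vec i d =
      vec ![i 0, i 1 - d 0 * t, i 2 - d 1 * t, i 3 + i 0 * t, i 4 - i 1 * t - d 0 * t ^ 2, i 5 + i 2 * t + d 1 * t ^ 2, i 6 + i 3 * t - i 0 * t ^ 2]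
        ![d 0, d 1, d 2, d 3, d 4, d 5 - d 0 * t ^ 3, d 6 + d 1 * t ^ 3] := by
  apply ext_io_ka
  · rw [vec_io]; funext k
    rw [Function.comp_apply, xMat_mulVec, congrFun rowI2 k]
    fin_cases k <;> simp [evRow, vecN] <;> ring
  · rw [vec_ka]; funext k
    rw [Function.comp_apply, xMat_mulVec, congrFun rowD2 k]
    fin_cases k <;> simp [evRow, vecN] <;> ring

/-- root element number 3 on the short-root ideal -/
def Y3 (t : K) : Matrix (Fin 7) (Fin 7) K :=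
  !![1, 0, 0, 0, 0, 0, 0; 0, 1, 0, 0, 0, 0, 0; -t, 0, 1, 0, 0, 0, 0; 0, -t, 0, 1, 0, 0, 0; 0, 0, 0, 0, 1, 0, 0; 0, -t ^ 2, 0, -t, 0, 1, 0; 0, 0, 0, 0, t, 0, 1]

theorem Y3_mulVec (t : K) (v : Fin 7 → K) :
    Y3 t *ᵥ v = ![v 0, v 1, v 2 - t * v 0, v 3 - t * v 1, v 4, v 5 - t * v 3 - t ^ 2 * v 1, v 6 + t * v 4] := by
  ext k
  fin_cases k <;> simp [Y3, mulVec, dotProduct, Fin.sum_univ_seven] <;> ring

theorem rowI3 : (fun k => rowTerms ⟨3, by decide⟩ (io k)) =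
    ![[(11, 0, 1), (13, 1, 1)], [(10, 0, 1)], [(11, 1, -1), (9, 0, 1), (13, 2, 1)], [(10, 1, -1), (0, 0, 1)], [(6, 0, 1), (8, 1, 1)], [(10, 2, -1), (0, 1, -1), (5, 0, 1), (1, 1, 1)], [(6, 1, 1), (4, 0, 1), (8, 2, -1)]] := by decide +kernel

theorem rowD3 : (fun k => rowTerms ⟨3, by decide⟩ (ka k)) =
    ![[(13, 0, 1)], [(12, 0, 1)], [(8, 0, 1)], [(1, 0, 1)], [(13, 3, -1), (7, 0, 1)], [(3, 0, 1)], [(8, 3, 1), (2, 0, 1)]] := by decide +kernel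

theorem x3_vec [CharP K 3] (t : K) (i d : Fin 7 → K) :
    chevG2.xMat K ⟨3, by decide⟩ t *ᵥ vec i d =
      vec ![i 0 + d 0 * t, i 1, i 2 - i 0 * t + d 0 * t ^ 2, i 3 - i 1 * t, i 4 + d 2 * t, i 5 + d 3 * t - i 3 * t - i 1 * t ^ 2, i 6 + i 4 * t - d 2 * t ^ 2]
        ![d 0, d 1, d 2, d 3, d 4 - d 0 * t ^ 3, d 5, d 6 + d 2 * t ^ 3] := by
  apply ext_io_ka
  · rw [vec_io]; funext k
    rw [Function.comp_apply, xMat_mulVec, congrFun rowI3 k]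
    fin_cases k <;> simp [evRow, vecN] <;> ring
  · rw [vec_ka]; funext k
    rw [Function.comp_apply, xMat_mulVec, congrFun rowD3 k]
    fin_cases k <;> simp [evRow, vecN] <;> ring

/-- root element number 4 on the short-root ideal -/
def Y4 (t : K) : Matrix (Fin 7) (Fin 7) K :=
  !![1, 0, 0, 0, 0, 0, 0; t, 1, 0, 0, 0, 0, 0; 0, 0, 1, 0, 0, 0, 0; 0, 0, -t, 1, 0, 0, 0; 0, 0, -t ^ 2, -t, 1, 0, 0; 0, 0, 0, 0, 0, 1, 0; 0, 0, 0, 0, 0, -t, 1]

theorem Y4_mulVec (t : K) (v : Fin 7 → K) :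
    Y4 t *ᵥ v = ![v 0, v 1 + t * v 0, v 2, v 3 - t * v 2, v 4 - t * v 3 - t ^ 2 * v 2, v 5, v 6 - t * v 5] := by
  ext k
  fin_cases k <;> simp [Y4, mulVec, dotProduct, Fin.sum_univ_seven] <;> ring

theorem rowI4 : (fun k => rowTerms ⟨4, by decide⟩ (io k)) =
    ![[(11, 0, 1), (12, 1, 1)], [(11, 1, 1), (10, 0, 1), (12, 2, -1)], [(9, 0, 1)], [(9, 1, -1), (0, 0, 1)], [(9, 2, -1), (0, 1, -1), (6, 0, 1), (1, 1, -1)], [(5, 0, 1), (7, 1, 1)], [(5, 1, -1), (4, 0, 1), (7, 2, 1)]] := by decide +kernel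

theorem rowD4 : (fun k => rowTerms ⟨4, by decide⟩ (ka k)) =
    ![[(13, 0, 1)], [(12, 0, 1)], [(12, 3, 1), (8, 0, 1)], [(1, 0, 1)], [(7, 0, 1)], [(7, 3, -1), (3, 0, 1)], [(2, 0, 1)]] := by decide +kernel

theorem x4_vec [CharP K 3] (t : K) (i d : Fin 7 → K) :
    chevG2.xMat K ⟨4, by decide⟩ t *ᵥ vec i d =
      vec ![i 0 + d 1 * t, i 1 + i 0 * t - d 1 * t ^ 2, i 2, i 3 - i 2 * t, i 4 - d 3 * t - i 3 * t - i 2 * t ^ 2, i 5 + d 4 * t, i 6 - i 5 * t + d 4 * t ^ 2]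
        ![d 0, d 1, d 2 + d 1 * t ^ 3, d 3, d 4, d 5 - d 4 * t ^ 3, d 6] := by
  apply ext_io_ka
  · rw [vec_io]; funext k
    rw [Function.comp_apply, xMat_mulVec, congrFun rowI4 k]
    fin_cases k <;> simp [evRow, vecN] <;> ring
  · rw [vec_ka]; funext k
    rw [Function.comp_apply, xMat_mulVec, congrFun rowD4 k]
    fin_cases k <;> simp [evRow, vecN] <;> ring

/-- root element number 5 on the short-root ideal -/
def Y5 (t : K) : Matrix (Fin 7) (Fin 7) K :=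
  !![1, 0, 0, 0, 0, 0, 0; 0, 1, 0, 0, 0, 0, 0; 0, t, 1, 0, 0, 0, 0; 0, 0, 0, 1, 0, 0, 0; 0, 0, 0, 0, 1, 0, 0; 0, 0, 0, 0, -t, 1, 0; 0, 0, 0, 0, 0, 0, 1]

theorem Y5_mulVec (t : K) (v : Fin 7 → K) :
    Y5 t *ᵥ v = ![v 0, v 1, v 2 + t * v 1, v 3, v 4, v 5 - t * v 4, v 6] := by
  ext k
  fin_cases k <;> simp [Y5, mulVec, dotProduct, Fin.sum_univ_seven] <;> ring

theorem rowI5 : (fun k => rowTerms ⟨5, by decide⟩ (io k)) =
    ![[(11, 0, 1)], [(10, 0, 1)], [(10, 1, 1), (9, 0, 1)], [(0, 0, 1)], [(6, 0, 1)], [(6, 1, -1), (5, 0, 1)], [(4, 0, 1)]] := by decide +kernel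

theorem rowD5 : (fun k => rowTerms ⟨5, by decide⟩ (ka k)) =
    ![[(13, 0, 1)], [(13, 1, 1), (12, 0, 1)], [(8, 0, 1)], [(8, 1, -1), (1, 0, 1)], [(8, 2, -1), (1, 1, -1), (7, 0, 1)], [(3, 0, 1)], [(3, 1, -1), (2, 0, 1)]] := by decide +kernel

theorem x5_vec [CharP K 3] (t : K) (i d : Fin 7 → K) :
    chevG2.xMat K ⟨5, by decide⟩ t *ᵥ vec i d =
      vec ![i 0, i 1, i 2 + i 1 * t, i 3, i 4, i 5 - i 4 * t, i 6]
        ![d 0, d 1 + d 0 * t, d 2, d 3 - d 2 * t, d 4 - d 3 * t - d 2 * t ^ 2, d 5, d 6 - d 5 * t] := by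
  apply ext_io_ka
  · rw [vec_io]; funext k
    rw [Function.comp_apply, xMat_mulVec, congrFun rowI5 k]
    fin_cases k <;> simp [evRow, vecN] <;> ring
  · rw [vec_ka]; funext k
    rw [Function.comp_apply, xMat_mulVec, congrFun rowD5 k]
    fin_cases k <;> simp [evRow, vecN] <;> ring

/-- root element number 6 on the short-root ideal -/
def Y6 (t : K) : Matrix (Fin 7) (Fin 7) K :=
  !![1, 0, 0, 0, 0, 0, 0; 0, 1, t, 0, 0, 0, 0; 0, 0, 1, 0, 0, 0, 0; 0, 0, 0, 1, 0, 0, 0; 0, 0, 0, 0, 1, -t, 0; 0, 0, 0, 0, 0, 1, 0; 0, 0, 0, 0, 0, 0, 1]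

theorem Y6_mulVec (t : K) (v : Fin 7 → K) :
    Y6 t *ᵥ v = ![v 0, v 1 + t * v 2, v 2, v 3, v 4 - t * v 5, v 5, v 6] := by
  ext k
  fin_cases k <;> simp [Y6, mulVec, dotProduct, Fin.sum_univ_seven] <;> ring

theorem rowI6 : (fun k => rowTerms ⟨6, by decide⟩ (io k)) =
    ![[(11, 0, 1)], [(10, 0, 1), (9, 1, 1)], [(9, 0, 1)], [(0, 0, 1)], [(6, 0, 1), (5, 1, -1)], [(5, 0, 1)], [(4, 0, 1)]] := by decide +kernel

theorem rowD6 : (fun k => rowTerms ⟨6, by decide⟩ (ka k)) =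
    ![[(13, 0, 1), (12, 1, 1)], [(12, 0, 1)], [(8, 0, 1), (1, 1, 1), (7, 2, -1)], [(1, 0, 1), (7, 1, 1)], [(7, 0, 1)], [(3, 0, 1), (2, 1, -1)], [(2, 0, 1)]] := by decide +kernel

theorem x6_vec [CharP K 3] (t : K) (i d : Fin 7 → K) :
    chevG2.xMat K ⟨6, by decide⟩ t *ᵥ vec i d =
      vec ![i 0, i 1 + i 2 * t, i 2, i 3, i 4 - i 5 * t, i 5, i 6]
        ![d 0 + d 1 * t, d 1, d 2 + d 3 * t - d 4 * t ^ 2, d 3 + d 4 * t, d 4, d 5 - d 6 * t, d 6] := by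
  apply ext_io_ka
  · rw [vec_io]; funext k
    rw [Function.comp_apply, xMat_mulVec, congrFun rowI6 k]
    fin_cases k <;> simp [evRow, vecN] <;> ring
  · rw [vec_ka]; funext k
    rw [Function.comp_apply, xMat_mulVec, congrFun rowD6 k]
    fin_cases k <;> simp [evRow, vecN] <;> ring

/-- root element number 7 on the short-root ideal -/
def Y7 (t : K) : Matrix (Fin 7) (Fin 7) K :=
  !![1, t, 0, 0, 0, 0, 0; 0, 1, 0, 0, 0, 0, 0; 0, 0, 1, t, -t ^ 2, 0, 0; 0, 0, 0, 1, t, 0, 0; 0, 0, 0, 0, 1, 0, 0; 0, 0, 0, 0, 0, 1, -t; 0, 0, 0, 0, 0, 0, 1]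

theorem Y7_mulVec (t : K) (v : Fin 7 → K) :
    Y7 t *ᵥ v = ![v 0 + t * v 1, v 1, v 2 + t * v 3 - t ^ 2 * v 4, v 3 + t * v 4, v 4, v 5 - t * v 6, v 6] := by
  ext k
  fin_cases k <;> simp [Y7, mulVec, dotProduct, Fin.sum_univ_seven] <;> ring

theorem rowI7 : (fun k => rowTerms ⟨7, by decide⟩ (io k)) =
    ![[(11, 0, 1), (10, 1, 1), (8, 2, 1)], [(10, 0, 1), (8, 1, -1)], [(9, 0, 1), (0, 1, 1), (6, 2, -1), (1, 1, 1)], [(0, 0, 1), (6, 1, 1)], [(6, 0, 1)], [(5, 0, 1), (4, 1, -1), (3, 2, -1)], [(4, 0, 1), (3, 1, -1)]] := by decide +kernel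

theorem rowD7 : (fun k => rowTerms ⟨7, by decide⟩ (ka k)) =
    ![[(13, 0, 1)], [(12, 0, 1), (8, 3, 1)], [(8, 0, 1)], [(1, 0, 1)], [(7, 0, 1), (3, 3, -1)], [(3, 0, 1)], [(2, 0, 1)]] := by decide +kernel

theorem x7_vec [CharP K 3] (t : K) (i d : Fin 7 → K) :
    chevG2.xMat K ⟨7, by decide⟩ t *ᵥ vec i d =
      vec ![i 0 + i 1 * t + d 2 * t ^ 2, i 1 - d 2 * t, i 2 + d 3 * t + i 3 * t - i 4 * t ^ 2, i 3 + i 4 * t, i 4, i 5 - i 6 * t - d 5 * t ^ 2, i 6 - d 5 * t]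
        ![d 0, d 1 + d 2 * t ^ 3, d 2, d 3, d 4 - d 5 * t ^ 3, d 5, d 6] := by
  apply ext_io_ka
  · rw [vec_io]; funext k
    rw [Function.comp_apply, xMat_mulVec, congrFun rowI7 k]
    fin_cases k <;> simp [evRow, vecN] <;> ring
  · rw [vec_ka]; funext k
    rw [Function.comp_apply, xMat_mulVec, congrFun rowD7 k]
    fin_cases k <;> simp [evRow, vecN] <;> ring

/-- root element number 8 on the short-root ideal -/
def Y8 (t : K) : Matrix (Fin 7) (Fin 7) K :=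
  !![1, 0, -t, 0, 0, 0, 0; 0, 1, 0, t, 0, -t ^ 2, 0; 0, 0, 1, 0, 0, 0, 0; 0, 0, 0, 1, 0, t, 0; 0, 0, 0, 0, 1, 0, t; 0, 0, 0, 0, 0, 1, 0; 0, 0, 0, 0, 0, 0, 1]

theorem Y8_mulVec (t : K) (v : Fin 7 → K) :
    Y8 t *ᵥ v = ![v 0 - t * v 2, v 1 + t * v 3 - t ^ 2 * v 5, v 2, v 3 + t * v 5, v 4 + t * v 6, v 5, v 6] := by
  ext k
  fin_cases k <;> simp [Y8, mulVec, dotProduct, Fin.sum_univ_seven] <;> ring

theorem rowI8 : (fun k => rowTerms ⟨8, by decide⟩ (io k)) =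
    ![[(11, 0, 1), (9, 1, -1), (7, 2, -1)], [(10, 0, 1), (0, 1, 1), (5, 2, -1), (1, 1, -1)], [(9, 0, 1), (7, 1, -1)], [(0, 0, 1), (5, 1, 1)], [(6, 0, 1), (4, 1, 1), (2, 2, 1)], [(5, 0, 1)], [(4, 0, 1), (2, 1, -1)]] := by decide +kernel

theorem rowD8 : (fun k => rowTerms ⟨8, by decide⟩ (ka k)) =
    ![[(13, 0, 1), (7, 3, -1)], [(12, 0, 1)], [(8, 0, 1), (2, 3, 1)], [(1, 0, 1)], [(7, 0, 1)], [(3, 0, 1)], [(2, 0, 1)]] := by decide +kernel

theorem x8_vec [CharP K 3] (t : K) (i d : Fin 7 → K) :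
    chevG2.xMat K ⟨8, by decide⟩ t *ᵥ vec i d =
      vec ![i 0 - i 2 * t - d 4 * t ^ 2, i 1 - d 3 * t + i 3 * t - i 5 * t ^ 2, i 2 - d 4 * t, i 3 + i 5 * t, i 4 + i 6 * t + d 6 * t ^ 2, i 5, i 6 - d 6 * t]
        ![d 0 - d 4 * t ^ 3, d 1, d 2 + d 6 * t ^ 3, d 3, d 4, d 5, d 6] := by
  apply ext_io_ka
  · rw [vec_io]; funext k
    rw [Function.comp_apply, xMat_mulVec, congrFun rowI8 k]
    fin_cases k <;> simp [evRow, vecN] <;> ring
  · rw [vec_ka]; funext k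
    rw [Function.comp_apply, xMat_mulVec, congrFun rowD8 k]
    fin_cases k <;> simp [evRow, vecN] <;> ring

/-- root element number 9 on the short-root ideal -/
def Y9 (t : K) : Matrix (Fin 7) (Fin 7) K :=
  !![1, 0, 0, -t, 0, 0, -t ^ 2; 0, 1, 0, 0, -t, 0, 0; 0, 0, 1, 0, 0, t, 0; 0, 0, 0, 1, 0, 0, -t; 0, 0, 0, 0, 1, 0, 0; 0, 0, 0, 0, 0, 1, 0; 0, 0, 0, 0, 0, 0, 1]

theorem Y9_mulVec (t : K) (v : Fin 7 → K) :
    Y9 t *ᵥ v = ![v 0 - t * v 3 - t ^ 2 * v 6, v 1 - t * v 4, v 2 + t * v 5, v 3 - t * v 6, v 4, v 5, v 6] := by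
  ext k
  fin_cases k <;> simp [Y9, mulVec, dotProduct, Fin.sum_univ_seven] <;> ring

theorem rowI9 : (fun k => rowTerms ⟨9, by decide⟩ (io k)) =
    ![[(11, 0, 1), (0, 1, -1), (4, 2, -1)], [(10, 0, 1), (6, 1, -1), (3, 2, 1)], [(9, 0, 1), (5, 1, 1), (2, 2, -1)], [(0, 0, 1), (4, 1, -1)], [(6, 0, 1), (3, 1, 1)], [(5, 0, 1), (2, 1, 1)], [(4, 0, 1)]] := by decide +kernel

theorem rowD9 : (fun k => rowTerms ⟨9, by decide⟩ (ka k)) =
    ![[(13, 0, 1), (3, 3, -1)], [(12, 0, 1), (2, 3, 1)], [(8, 0, 1)], [(1, 0, 1)], [(7, 0, 1)], [(3, 0, 1)], [(2, 0, 1)]] := by decide +kernel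

theorem x9_vec [CharP K 3] (t : K) (i d : Fin 7 → K) :
    chevG2.xMat K ⟨9, by decide⟩ t *ᵥ vec i d =
      vec ![i 0 - i 3 * t - i 6 * t ^ 2, i 1 - i 4 * t + d 5 * t ^ 2, i 2 + i 5 * t - d 6 * t ^ 2, i 3 - i 6 * t, i 4 + d 5 * t, i 5 + d 6 * t, i 6]
        ![d 0 - d 5 * t ^ 3, d 1 + d 6 * t ^ 3, d 2, d 3, d 4, d 5, d 6] := by
  apply ext_io_ka
  · rw [vec_io]; funext k
    rw [Function.comp_apply, xMat_mulVec, congrFun rowI9 k]
    fin_cases k <;> simp [evRow, vecN] <;> ring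
  · rw [vec_ka]; funext k
    rw [Function.comp_apply, xMat_mulVec, congrFun rowD9 k]
    fin_cases k <;> simp [evRow, vecN] <;> ring

/-- root element number 10 on the short-root ideal -/
def Y10 (t : K) : Matrix (Fin 7) (Fin 7) K :=
  !![1, 0, 0, 0, -t, 0, 0; 0, 1, 0, 0, 0, 0, 0; 0, 0, 1, 0, 0, 0, t; 0, 0, 0, 1, 0, 0, 0; 0, 0, 0, 0, 1, 0, 0; 0, 0, 0, 0, 0, 1, 0; 0, 0, 0, 0, 0, 0, 1]

theorem Y10_mulVec (t : K) (v : Fin 7 → K) :
    Y10 t *ᵥ v = ![v 0 - t * v 4, v 1, v 2 + t * v 6, v 3, v 4, v 5, v 6] := by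
  ext k
  fin_cases k <;> simp [Y10, mulVec, dotProduct, Fin.sum_univ_seven] <;> ring

theorem rowI10 : (fun k => rowTerms ⟨10, by decide⟩ (io k)) =
    ![[(11, 0, 1), (6, 1, -1)], [(10, 0, 1)], [(9, 0, 1), (4, 1, 1)], [(0, 0, 1), (3, 1, 1)], [(6, 0, 1)], [(5, 0, 1)], [(4, 0, 1)]] := by decide +kernel

theorem rowD10 : (fun k => rowTerms ⟨10, by decide⟩ (ka k)) =
    ![[(13, 0, 1), (8, 1, -1)], [(12, 0, 1), (1, 1, 1), (3, 2, -1)], [(8, 0, 1)], [(1, 0, 1), (3, 1, 1)], [(7, 0, 1), (2, 1, 1)], [(3, 0, 1)], [(2, 0, 1)]] := by decide +kernel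

theorem x10_vec [CharP K 3] (t : K) (i d : Fin 7 → K) :
    chevG2.xMat K ⟨10, by decide⟩ t *ᵥ vec i d =
      vec ![i 0 - i 4 * t, i 1, i 2 + i 6 * t, i 3 + d 5 * t, i 4, i 5, i 6]
        ![d 0 - d 2 * t, d 1 + d 3 * t - d 5 * t ^ 2, d 2, d 3 + d 5 * t, d 4 + d 6 * t, d 5, d 6] := by
  apply ext_io_ka
  · rw [vec_io]; funext k
    rw [Function.comp_apply, xMat_mulVec, congrFun rowI10 k]
    fin_cases k <;> simp [evRow, vecN] <;> ring
  · rw [vec_ka]; funext k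
    rw [Function.comp_apply, xMat_mulVec, congrFun rowD10 k]
    fin_cases k <;> simp [evRow, vecN] <;> ring

/-- root element number 11 on the short-root ideal -/
def Y11 (t : K) : Matrix (Fin 7) (Fin 7) K :=
  !![1, 0, 0, 0, 0, -t, 0; 0, 1, 0, 0, 0, 0, t; 0, 0, 1, 0, 0, 0, 0; 0, 0, 0, 1, 0, 0, 0; 0, 0, 0, 0, 1, 0, 0; 0, 0, 0, 0, 0, 1, 0; 0, 0, 0, 0, 0, 0, 1]

theorem Y11_mulVec (t : K) (v : Fin 7 → K) :
    Y11 t *ᵥ v = ![v 0 - t * v 5, v 1 + t * v 6, v 2, v 3, v 4, v 5, v 6] := by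
  ext k
  fin_cases k <;> simp [Y11, mulVec, dotProduct, Fin.sum_univ_seven] <;> ring

theorem rowI11 : (fun k => rowTerms ⟨11, by decide⟩ (io k)) =
    ![[(11, 0, 1), (5, 1, -1)], [(10, 0, 1), (4, 1, 1)], [(9, 0, 1)], [(0, 0, 1), (2, 1, 1)], [(6, 0, 1)], [(5, 0, 1)], [(4, 0, 1)]] := by decide +kernel

theorem rowD11 : (fun k => rowTerms ⟨11, by decide⟩ (ka k)) =
    ![[(13, 0, 1), (1, 1, -1), (2, 2, -1)], [(12, 0, 1), (7, 1, -1)], [(8, 0, 1), (3, 1, 1)], [(1, 0, 1), (2, 1, -1)], [(7, 0, 1)], [(3, 0, 1)], [(2, 0, 1)]] := by decide +kernel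

theorem x11_vec [CharP K 3] (t : K) (i d : Fin 7 → K) :
    chevG2.xMat K ⟨11, by decide⟩ t *ᵥ vec i d =
      vec ![i 0 - i 5 * t, i 1 + i 6 * t, i 2, i 3 + d 6 * t, i 4, i 5, i 6]
        ![d 0 - d 3 * t - d 6 * t ^ 2, d 1 - d 4 * t, d 2 + d 5 * t, d 3 - d 6 * t, d 4, d 5, d 6] := by
  apply ext_io_ka
  · rw [vec_io]; funext k
    rw [Function.comp_apply, xMat_mulVec, congrFun rowI11 k]
    fin_cases k <;> simp [evRow, vecN] <;> ring
  · rw [vec_ka]; funext k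
    rw [Function.comp_apply, xMat_mulVec, congrFun rowD11 k]
    fin_cases k <;> simp [evRow, vecN] <;> ring

end H40.Ree
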